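import Groth.Prelude.Def_TwC
import Mathlib.CategoryTheory.Monoidal.Cartesian.Grp
import Mathlib.CategoryTheory.Monoidal.Cartesian.Over
import Mathlib.AlgebraicGeometry.Limits
import Mathlib.Topology.LocallyConstant.Algebra

/-!
# The group structure on a constant scheme
-/

set_option autoImplicit false
set_option backward.isDefEq.respectTransparency.types false
set_option linter.style.haveILetI false
set_option linter.unusedSectionVars false

universe u

open CategoryTheory CategoryTheory.Limits MonoidalCategory CartesianMonoidalCategory MonObj AlgebraicGeometry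
open TopologicalSpace

noncomputable section

namespace Groth.L08.AlbLarge

variable {S : Scheme.{u}} {M : Type} [CommGroup M]

/-- the index of the copy in which a point of a constant scheme lies -/
def label {T : Over S} (f : T ⟶ TwC.const S M) (x : T.left) : M :=
  ((sigmaOpenCover fun _ : M => S).exists_eq (f.left x)).choose

theorem mem_label {T : Over S} (f : T ⟶ TwC.const S M) (x : T.left) :
    f.left x ∈ (Sigma.ι (fun _ : M => S) (label f x)).opensRange :=
  ((sigmaOpenCover fun _ : M => S).exists_eq (f.left x)).choose_spec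

theorem label_eq {T : Over S} {f : T ⟶ TwC.const S M} {x : T.left} {m : M}
    (h : f.left x ∈ (Sigma.ι (fun _ : M => S) m).opensRange) : label f x = m := by
  by_contra hne
  exact Set.disjoint_iff_forall_ne.1 (TopologicalSpace.Opens.coe_disjoint.2
    (disjoint_opensRange_sigmaι (fun _ : M => S) _ _ hne)) (mem_label f x) h rfl

theorem isLocallyConstant_label {T : Over S} (f : T ⟶ TwC.const S M) : IsLocallyConstant (label f) := by
  refine IsLocallyConstant.iff_isOpen_fiber.2 fun m => ?_
  convert (f.left ⁻¹ᵁ (Sigma.ι (fun _ : M => S) m).opensRange).isOpen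
  ext x
  exact ⟨fun h => (h : label f x = m) ▸ mem_label f x, label_eq⟩

/-- the fibre of a locally constant function -/
def fibre {T : Over S} (L : LocallyConstant T.left M) (m : M) : T.left.Opens :=
  ⟨L ⁻¹' {m}, L.isLocallyConstant.isOpen_fiber m⟩

theorem isColimit_fibre {T : Over S} (L : LocallyConstant T.left M) :
    Nonempty (IsColimit (Cofan.mk T.left fun m => (fibre L m).ι)) := by
  refine nonempty_isColimit_cofanMk_of _ ?_ ?_
  · refine eq_top_iff.2 fun x _ => Opens.mem_iSup.2 ⟨L x, ?_⟩
    rw [Scheme.Opens.opensRange_ι]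
    rfl
  · intro m n hmn
    rw [Function.onFun, Scheme.Opens.opensRange_ι, Scheme.Opens.opensRange_ι, disjoint_iff, ← le_bot_iff]
    rintro x ⟨h1, h2⟩
    exact absurd ((show L x = m from h1).symm.trans h2) hmn

/-- the morphism with given labels -/
def ofFun {T : Over S} (L : LocallyConstant T.left M) : T ⟶ TwC.const S M :=
  Over.homMk ((isColimit_fibre L).some.desc (Cofan.mk _ fun m => (fibre L m).ι ≫ T.hom ≫ Sigma.ι (fun _ : M => S) m))
    (Cofan.IsColimit.hom_ext (isColimit_fibre L).some _ _ fun m => by
      rw [← Category.assoc]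
      refine (congrArg (· ≫ _) ((isColimit_fibre L).some.fac _ ⟨m⟩)).trans ?_
      simp [TwC.const])

theorem ι_ofFun {T : Over S} (L : LocallyConstant T.left M) (m : M) :
    (fibre L m).ι ≫ (ofFun L).left = (fibre L m).ι ≫ T.hom ≫ Sigma.ι (fun _ : M => S) m :=
  (isColimit_fibre L).some.fac (Cofan.mk _ fun m => (fibre L m).ι ≫ T.hom ≫ Sigma.ι (fun _ : M => S) m) ⟨m⟩

/-- maps to a constant scheme are locally constant functions -/
def homEquiv (T : Over S) : (T ⟶ TwC.const S M) ≃ LocallyConstant T.left M where
  toFun f := ⟨label f, isLocallyConstant_label f⟩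
  invFun := ofFun
  left_inv f := by
    refine Over.OverMorphism.ext (Cofan.IsColimit.hom_ext (isColimit_fibre ⟨label f, isLocallyConstant_label f⟩).some _ _ fun m => ?_)
    show (fibre _ m).ι ≫ (ofFun _).left = (fibre _ m).ι ≫ f.left
    rw [ι_ofFun]
    let U := fibre (⟨label f, isLocallyConstant_label f⟩ : LocallyConstant T.left M) m
    have hr : Set.range (U.ι ≫ f.left) ⊆ Set.range (Sigma.ι (fun _ : M => S) m) := by
      rintro _ ⟨x, rfl⟩
      have hx : label f (U.ι x) = m := x.2
      have := mem_label f (U.ι x)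
      rw [hx] at this
      exact this
    have hl := IsOpenImmersion.lift_fac (Sigma.ι (fun _ : M => S) m) (U.ι ≫ f.left) hr
    have h2 : IsOpenImmersion.lift (Sigma.ι (fun _ : M => S) m) (U.ι ≫ f.left) hr = U.ι ≫ T.hom := by
      have := congrArg (· ≫ (TwC.const S M).hom) hl
      simp only [Category.assoc, Over.w, TwC.const, Over.mk_hom, Sigma.ι_desc, Category.comp_id] at this
      rw [this, show f.left ≫ Sigma.desc (fun _ : M => 𝟙 S) = T.hom from Over.w f]
    rw [h2, Category.assoc] at hl
    exact hl
  right_inv L := by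
    refine LocallyConstant.ext fun x => label_eq ⟨T.hom x, ?_⟩
    have h := congr($(ι_ofFun L (L x)) (⟨x, rfl⟩ : (fibre L (L x) : Scheme.{u})))
    exact h.symm

theorem label_comp {T T' : Over S} (g : T' ⟶ T) (f : T ⟶ TwC.const S M) (x : T'.left) :
    label (g ≫ f) x = label f (g.left x) := label_eq (mem_label f (g.left x))

variable (S M) in
/-- the presheaf of groups represented by a constant scheme -/
def lcFunctor : (Over S)ᵒᵖ ⥤ GrpCat.{u} where
  obj T := GrpCat.of (LocallyConstant T.unop.left M)
  map {T T'} g := GrpCat.ofHom (MonoidHom.mk'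
    (fun L => L.comap ⟨g.unop.left, g.unop.left.continuous⟩) fun _ _ => rfl)
  map_id _ := rfl
  map_comp _ _ := rfl

variable (S M) in
/-- the constant scheme represents its presheaf -/
def representableBy : (lcFunctor S M ⋙ forget _).RepresentableBy (TwC.const S M) where
  homEquiv {T} := homEquiv T
  homEquiv_comp g f := LocallyConstant.ext fun x => label_comp g f x

/-- the constant group -/
instance grpObjConst : GrpObj (TwC.const S M) := GrpObj.ofRepresentableBy _ _ (representableBy S M)

theorem label_mul {T : Over S} (a b : T ⟶ TwC.const S M) (x : T.left) :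
    label (a * b) x = label a x * label b x := by
  let C := TwC.const S M
  have hμ : μ[C] = (homEquiv (C ⊗ C)).symm (homEquiv _ (fst C C) * homEquiv _ (snd C C)) := rfl
  rw [Hom.mul_def, label_comp, hμ]
  have := congr($((homEquiv (C ⊗ C)).apply_symm_apply (homEquiv _ (fst C C) * homEquiv _ (snd C C))) ((lift a b).left x))
  refine this.trans ?_
  show label (fst C C) ((lift a b).left x) * label (snd C C) ((lift a b).left x) = _
  rw [← label_comp, ← label_comp, lift_fst, lift_snd]

theorem hom_ext_label {T : Over S} {a b : T ⟶ TwC.const S M} (h : ∀ x, label a x = label b x) : a = b :=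
  (homEquiv T).injective (LocallyConstant.ext h)

theorem label_pt {T : Over S} (m : M) (x : T.left) : label (toUnit T ≫ TwC.pt S M m) x = m := by
  rw [label_comp]
  exact label_eq ⟨(toUnit T).left x, rfl⟩

theorem label_one {T : Over S} (x : T.left) : label (1 : T ⟶ TwC.const S M) x = 1 := by
  have h := label_mul (1 : T ⟶ TwC.const S M) 1 x
  rw [_root_.one_mul] at h
  exact left_eq_mul.1 h

theorem pt_one {T : Over S} : toUnit T ≫ TwC.pt S M 1 = 1 :=
  hom_ext_label fun x => (label_pt 1 x).trans (label_one x).symm

instance isCommMonObjConst : IsCommMonObj (TwC.const S M) := by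
  refine ⟨hom_ext_label fun x => ?_⟩
  have e1 : μ[TwC.const S M] = fst _ _ * snd _ _ := MonObj.mul_eq_mul _
  rw [e1, MonObj.comp_mul, braiding_hom_fst, braiding_hom_snd, label_mul, label_mul, mul_comm]

/-- a preconnected scheme maps into one copy -/
theorem eq_pt_of_preconnected {T : Over S} [PreconnectedSpace T.left] (f : T ⟶ TwC.const S M) (x : T.left) :
    f = toUnit T ≫ TwC.pt S M (label f x) :=
  hom_ext_label fun y => ((isLocallyConstant_label f).apply_eq_of_preconnectedSpace y x).trans (label_pt _ y).symm

variable {A : Over S} [GrpObj A] [IsCommMonObj A] (c : M →* (𝟙_ (Over S) ⟶ A))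

/-- the morphism out of a constant group given by points -/
def ofPts : TwC.const S M ⟶ A :=
  Over.homMk (Sigma.desc fun m => (c m).left) (Sigma.hom_ext _ _ fun m => by
    simp [TwC.const, Over.w (c m)])

theorem pt_ofPts (m : M) : TwC.pt S M m ≫ ofPts c = c m :=
  Over.OverMorphism.ext (Sigma.ι_desc _ m)

theorem isMonHom_ofPts : IsMonHom (ofPts c) := by
  let C := TwC.const S M
  have hmul : ∀ (T : Over S) (a b : T ⟶ C), (a * b) ≫ ofPts c = (a ≫ ofPts c) * (b ≫ ofPts c) := by
    intro T a b
    let U : T.left → T.left.Opens := fun x =>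
      fibre ⟨label a, isLocallyConstant_label a⟩ (label a x) ⊓ fibre ⟨label b, isLocallyConstant_label b⟩ (label b x)
    have hU : ⨆ x, U x = ⊤ := eq_top_iff.2 fun x _ => Opens.mem_iSup.2 ⟨x, rfl, rfl⟩
    refine Over.OverMorphism.ext (Scheme.Cover.hom_ext (T.left.openCoverOfIsOpenCover U hU) _ _ fun x => ?_)
    let W : Over S := Over.mk ((U x).ι ≫ T.hom)
    let i : W ⟶ T := Over.homMk (U x).ι rfl
    have ha : i ≫ a = toUnit W ≫ TwC.pt S M (label a x) := hom_ext_label fun y => by
      rw [label_comp, label_pt]; exact y.2.1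
    have hb : i ≫ b = toUnit W ≫ TwC.pt S M (label b x) := hom_ext_label fun y => by
      rw [label_comp, label_pt]; exact y.2.2
    have hab : i ≫ (a * b) = toUnit W ≫ TwC.pt S M (label a x * label b x) := hom_ext_label fun y => by
      rw [MonObj.comp_mul, ha, hb, label_mul, label_pt, label_pt, label_pt]
    have key : i ≫ (a * b) ≫ ofPts c = i ≫ ((a ≫ ofPts c) * (b ≫ ofPts c)) := by
      rw [MonObj.comp_mul, reassoc_of% ha, reassoc_of% hb, reassoc_of% hab, pt_ofPts, pt_ofPts, pt_ofPts, map_mul,
        MonObj.comp_mul]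
    exact congrArg CommaMorphism.left key
  refine ⟨?_, ?_⟩
  · have h := hmul (𝟙_ _) 1 1
    rw [_root_.one_mul] at h
    rw [MonObj.one_eq_one, MonObj.one_eq_one]
    exact left_eq_mul.1 h
  · rw [MonObj.mul_eq_mul, hmul, MonObj.mul_eq_mul, MonObj.comp_mul, tensorHom_fst, tensorHom_snd]

end Groth.L08.AlbLarge

namespace Groth.L08.AlbLarge

open CategoryTheory MonoidalCategory CartesianMonoidalCategory MonObj

theorem isMonHom_one {C : Type*} [Category C] [CartesianMonoidalCategory C] {H G : C} [GrpObj H] [GrpObj G] :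
    IsMonHom (1 : H ⟶ G) where
  one_hom := by simp [Hom.one_def]
  mul_hom := by
    rw [MonObj.comp_one, show ((1 : H ⟶ G) ⊗ₘ (1 : H ⟶ G)) = lift (fst H H ≫ 1) (snd H H ≫ 1) by ext <;> simp,
      ← Hom.mul_def, MonObj.comp_one, MonObj.comp_one, _root_.one_mul]

end Groth.L08.AlbLarge
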