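import Groth.Agent.L19.AlgGrpBasic.DimStrict
import Groth.Agent.L19.AlgGrpBasic.Points
import Groth.Agent.L19.AlgGrpBasic.GeomPoint
import Groth.Agent.L08.Rosen.RedSub
import Groth.Agent.L08.SubgroupObj
import Groth.Agent.L08.GrpDim
import Groth.Agent.L08.AbelianGrp
import Groth.Agent.L00.ReducedSub
import Groth.Agent.L25.Translate
import Groth.Agent.L25.GeomIrred
import Groth.Agent.L25.GrpDeriv

/-!
# The subgroup spanned by a proper variety is proper
-/

set_option autoImplicit false
set_option backward.isDefEq.respectTransparency.types false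
set_option linter.style.haveILetI false

universe u

open CategoryTheory CategoryTheory.Limits MonoidalCategory CartesianMonoidalCategory MonObj GrpObj AlgebraicGeometry

noncomputable section

namespace Groth.L08.AlbLarge

variable {k : Type u} [Field k] {G : Over (Spec (CommRingCat.of k))} [GrpObj G]

/-- the powers `Y^(2^n)` -/
def pow2 (Y : Over (Spec (CommRingCat.of k))) : ℕ → Over (Spec (CommRingCat.of k))
  | 0 => Y
  | n + 1 => pow2 Y n ⊗ pow2 Y n

variable {Y : Over (Spec (CommRingCat.of k))} (w : Y ⟶ G)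

/-- products of `2^n` values -/
def prod2 : (n : ℕ) → (pow2 Y n ⟶ G)
  | 0 => w
  | n + 1 => (fst _ _ ≫ prod2 n) * (snd _ _ ≫ prod2 n)

theorem props [IsAlgClosed k] [IsIntegral Y.left] [IsProper Y.hom] (n : ℕ) :
    IsReduced (pow2 Y n).left ∧ IrreducibleSpace (pow2 Y n).left ∧ IsProper (pow2 Y n).hom := by
  induction n with
  | zero =>
    exact ⟨inferInstanceAs (IsReduced Y.left), inferInstanceAs (IrreducibleSpace Y.left), inferInstanceAs (IsProper Y.hom)⟩
  | succ n ih =>
    obtain ⟨_, _, _⟩ := ih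
    haveI := Groth.L25.GeomIrred.geometricallyIrreducible_of_isAlgClosed (pow2 Y n).hom
    refine ⟨Groth.L08.Rosen.isReduced_tensor _ _, Groth.L19.AlgGrpBasic.irreducibleSpace_tensor _ _, ?_⟩
    show IsProper (pullback.fst (pow2 Y n).hom (pow2 Y n).hom ≫ (pow2 Y n).hom)
    infer_instance

/-- A proper variety through the identity, stable under inversion, of a commutative group spans a proper subgroup. -/
theorem exists_proper_subgroup [IsAlgClosed k] [IsCommMonObj G] [LocallyOfFiniteType G.hom]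
    [IsIntegral Y.left] [IsProper Y.hom] (y₀ : 𝟙_ (Over (Spec (CommRingCat.of k))) ⟶ Y) (hy₀ : y₀ ≫ w = 1)
    (σ : Y ⟶ Y) (hσ : σ ≫ w = w⁻¹) :
    ∃ (E : Over (Spec (CommRingCat.of k))) (_ : GrpObj E) (j : E ⟶ G), IsMonHom j ∧ IsClosedImmersion j.left ∧
      IsProper E.hom ∧ Smooth E.hom ∧ ConnectedSpace E.left ∧ ∃ l : Y ⟶ E, l ≫ j = w := by
  haveI := AbelianGrp.isSeparated G
  haveI : IrreducibleSpace Y.left := inferInstance
  let Z : ℕ → Set G.left := fun n => Set.range (prod2 w n).left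
  -- increasing
  have hpt : ∀ n, ∃ p : 𝟙_ (Over (Spec (CommRingCat.of k))) ⟶ pow2 Y n, p ≫ prod2 w n = 1 := fun n => by
    induction n with
    | zero => exact ⟨y₀, hy₀⟩
    | succ n ih =>
      obtain ⟨p, hp⟩ := ih
      refine ⟨lift p p, ?_⟩
      show lift p p ≫ ((fst _ _ ≫ prod2 w n) * (snd _ _ ≫ prod2 w n)) = 1
      rw [MonObj.comp_mul, lift_fst_assoc, lift_snd_assoc, hp, _root_.one_mul]
  have hmono : ∀ n, Z n ⊆ Z (n + 1) := fun n => by
    obtain ⟨p, hp⟩ := hpt n
    rintro _ ⟨y, rfl⟩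
    refine ⟨(lift (𝟙 _) (toUnit _ ≫ p)).left y, ?_⟩
    have e : lift (𝟙 _) (toUnit _ ≫ p) ≫ prod2 w (n + 1) = prod2 w n := by
      show lift (𝟙 _) (toUnit _ ≫ p) ≫ ((fst _ _ ≫ prod2 w n) * (snd _ _ ≫ prod2 w n)) = _
      rw [MonObj.comp_mul, lift_fst_assoc, lift_snd_assoc, Category.id_comp, Category.assoc, hp, MonObj.comp_one,
        _root_.mul_one]
    exact congr(($e).left y)
  have hirr : ∀ n, IsIrreducible (Z n) ∧ IsClosed (Z n) := fun n => by
    obtain ⟨_, _, _⟩ := props (Y := Y) n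
    haveI : IsProper (prod2 w n).left := by
      haveI : IsProper ((prod2 w n).left ≫ G.hom) := by rw [Over.w]; infer_instance
      exact IsProper.of_comp (prod2 w n).left G.hom
    refine ⟨?_, (prod2 w n).left.isClosedMap.isClosed_range⟩
    show IsIrreducible (Set.range _)
    rw [← Set.image_univ]
    exact (IrreducibleSpace.isIrreducible_univ _).image _ (prod2 w n).left.continuous.continuousOn
  -- stabilisation by dimension
  obtain ⟨m, -, hm⟩ := Groth.L08.GrpDim.exists_dim (G := G)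
  have hd : ∀ n, ∃ d : ℕ, d ≤ m ∧ topologicalKrullDim (Z n) = (d : WithBot ℕ∞) := fun n => by
    haveI : Nonempty (Z n) := (hirr n).1.nonempty.to_subtype
    have h1 : topologicalKrullDim (Z n) ≤ (m : WithBot ℕ∞) :=
      (Topology.IsInducing.subtypeVal.topologicalKrullDim_le).trans hm.le
    have h0 : 0 ≤ topologicalKrullDim (Z n) := by
      haveI : IrreducibleSpace (Z n) := Subtype.irreducibleSpace (hirr n).1
      haveI : Nonempty (TopologicalSpace.IrreducibleCloseds (Z n)) :=
        ⟨⟨Set.univ, IrreducibleSpace.isIrreducible_univ _, isClosed_univ⟩⟩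
      exact Order.krullDim_nonneg
    generalize topologicalKrullDim (Z n) = x at h0 h1 ⊢
    induction x using WithBot.recBotCoe with
    | bot => exact absurd h0 (by decide)
    | coe x =>
      obtain ⟨d, rfl⟩ := ENat.ne_top_iff_exists.1 (ne_top_of_le_ne_top (ENat.natCast_ne_top m) (WithBot.coe_le_coe.1 h1))
      exact ⟨d, by exact_mod_cast h1, rfl⟩
  choose d hdm hd using hd
  obtain ⟨N, hN⟩ : ∃ N, d (N + 1) ≤ d N := by
    by_contra hc
    simp only [not_exists, not_le] at hc
    have : ∀ n, n ≤ d n := fun n => by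
      induction n with
      | zero => exact Nat.zero_le _
      | succ n ih => have := hc n; omega
    have h1 := this (m + 1)
    have h2 := hdm (m + 1)
    omega
  have hle : d N ≤ d (N + 1) := by
    have h := (Topology.IsEmbedding.inclusion (hmono N)).isInducing.topologicalKrullDim_le
    rw [hd N, hd (N + 1)] at h
    exact_mod_cast h
  have hst : Z N = Z (N + 1) := Groth.L19.AlgGrpBasic.eq_of_subset_of_dim_eq (hirr N).2 (hirr (N + 1)).1 (hmono N)
    (hd (N + 1)) (by rw [hd N, le_antisymm hle hN])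
  obtain ⟨_, _, _⟩ := props (Y := Y) N
  -- the reduced structure
  obtain ⟨W, e, he, hWr, hWe⟩ := Groth.L00.ReducedSub.exists_reduced (X := G.left) (Z N) (hirr N).2.isLocallyClosed
  haveI := hWr
  haveI := he
  haveI : IsClosedImmersion e := .of_isPreimmersion _ (hWe ▸ (hirr N).2)
  let E : Over (Spec (CommRingCat.of k)) := Over.mk (e ≫ G.hom)
  let j : E ⟶ G := Over.homMk e rfl
  haveI : IsClosedImmersion j.left := ‹IsClosedImmersion e›
  haveI : IsReduced E.left := hWr
  haveI : Mono j := Groth.L19.AlgGrpBasic.mono_of_closed j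
  haveI : IsReduced (E ⊗ E).left := Groth.L08.Rosen.isReduced_tensor E E
  haveI : IsReduced (𝟙_ (Over (Spec (CommRingCat.of k)))).left := inferInstanceAs (IsReduced (Spec (CommRingCat.of k)))
  have hr : Set.range j.left = Z N := hWe
  obtain ⟨p, hp⟩ := hpt N
  have h1 : ∃ z, z ≫ j = η[G] := Groth.L19.AlgGrpBasic.exists_lift_of_range j _ (by
    rintro _ ⟨x, rfl⟩
    rw [hr]
    exact ⟨p.left x, (congr(($hp).left x)).trans (by
      rw [Hom.one_def, toUnit_unique (toUnit (𝟙_ _)) (𝟙 _), Category.id_comp])⟩)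
  have hmul : ∃ z, z ≫ j = (fst E E ≫ j) * (snd E E ≫ j) := Groth.L19.AlgGrpBasic.exists_lift_of_range j _ (by
    rintro _ ⟨x, rfl⟩
    rw [hr, hst]
    have hx : (j ⊗ₘ j).left x ∈ Set.range (prod2 w N ⊗ₘ prod2 w N).left := by
      rw [Groth.L25.Translate.range_tensorHom, show Set.range (prod2 w N).left = Set.range j.left from hr.symm,
        ← Groth.L25.Translate.range_tensorHom]
      exact ⟨x, rfl⟩
    obtain ⟨v, hv⟩ := hx
    refine ⟨v, ?_⟩
    have e1 : (fst E E ≫ j) * (snd E E ≫ j) = (j ⊗ₘ j) ≫ μ[G] := by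
      exact (Hom.mul_def _ _).trans (congrArg (· ≫ μ[G]) (by ext <;> simp))
    have e2 : prod2 w (N + 1) = (prod2 w N ⊗ₘ prod2 w N) ≫ μ[G] := by
      show (fst _ _ ≫ prod2 w N) * (snd _ _ ≫ prod2 w N) = _
      exact (Hom.mul_def _ _).trans (congrArg (· ≫ μ[G]) (by ext <;> simp))
    rw [e1, e2]
    exact congrArg μ[G].left hv)
  have hσn : ∀ n, ∃ τ : pow2 Y n ⟶ pow2 Y n, τ ≫ prod2 w n = (prod2 w n)⁻¹ := fun n => by
    induction n with
    | zero => exact ⟨σ, hσ⟩
    | succ n ih =>
      obtain ⟨τ, hτ⟩ := ih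
      refine ⟨τ ⊗ₘ τ, ?_⟩
      show (τ ⊗ₘ τ) ≫ ((fst _ _ ≫ prod2 w n) * (snd _ _ ≫ prod2 w n)) = ((fst _ _ ≫ prod2 w n) * (snd _ _ ≫ prod2 w n))⁻¹
      have key : ∀ a b : pow2 Y n ⊗ pow2 Y n ⟶ G, a⁻¹ * b⁻¹ = (a * b)⁻¹ := fun a b => by
        rw [_root_.mul_inv_rev]; exact mul_comm _ _
      rw [MonObj.comp_mul, tensorHom_fst_assoc, tensorHom_snd_assoc, hτ, GrpObj.comp_inv, GrpObj.comp_inv]
      exact key _ _
  have hinv : ∃ z, z ≫ j = j⁻¹ := Groth.L19.AlgGrpBasic.exists_lift_of_range j _ (by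
    rintro _ ⟨x, rfl⟩
    obtain ⟨v, hv⟩ : j.left x ∈ Z N := hr ▸ ⟨x, rfl⟩
    obtain ⟨τ, hτ⟩ := hσn N
    rw [hr]
    refine ⟨τ.left v, ?_⟩
    have e2 : (prod2 w N)⁻¹ = prod2 w N ≫ ι[G] := Hom.inv_def _
    rw [← Scheme.Hom.comp_apply, ← Over.comp_left, hτ, Hom.inv_def j, e2, Over.comp_left, Over.comp_left,
      Scheme.Hom.comp_apply, Scheme.Hom.comp_apply, hv])
  obtain ⟨gE, hj⟩ := Groth.L08.exists_grpObj_of_mono j h1 hmul hinv
  haveI : LocallyOfFiniteType E.hom := by rw [← Over.w j]; infer_instance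
  obtain ⟨l, hl⟩ := Groth.L19.AlgGrpBasic.exists_lift_of_range j (prod2 w N) hr.symm.subset
  haveI : Surjective l.left := ⟨fun x => by
    obtain ⟨v, hv⟩ : j.left x ∈ Z N := hr ▸ ⟨x, rfl⟩
    exact ⟨v, j.left.isClosedEmbedding.injective ((congr(($hl).left v)).trans hv)⟩⟩
  haveI : UniversallyClosed E.hom := by
    haveI : UniversallyClosed (l.left ≫ E.hom) := by rw [Over.w]; infer_instance
    exact UniversallyClosed.of_comp_surjective l.left E.hom
  haveI : IsSeparated E.hom := by rw [← Over.w j]; infer_instance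
  haveI : IsProper E.hom := {}
  haveI : IrreducibleSpace E.left := by
    rw [irreducibleSpace_def, Set.top_eq_univ, ← l.left.surjective.range_eq, ← Set.image_univ]
    exact (IrreducibleSpace.isIrreducible_univ _).image _ l.left.continuous.continuousOn
  have hsm : Smooth E.hom := by
    letI : GrpObj (Over.mk E.hom) := gE
    exact Groth.L25.GrpDeriv.smooth_of_perfectField E.hom
  have hw : Set.range w.left ⊆ Set.range j.left := by
    have h : ∀ n, Z 0 ⊆ Z n := fun n => by
      induction n with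
      | zero => exact subset_rfl
      | succ n ih => exact ih.trans (hmono n)
    rw [hr]
    exact h N
  exact ⟨E, gE, j, hj, inferInstance, inferInstance, hsm, inferInstance,
    Groth.L19.AlgGrpBasic.exists_lift_of_range j w hw⟩

end Groth.L08.AlbLarge
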